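import Groth.Agent.Lib.MinModel32.Transfer
import Groth.Agent.Lib.PointBlowUp32.Universal
import Groth.Agent.Lib.PointBlowUp32.RatMap
import Groth.Agent.Lib.RegRat32.Main
import Groth.Agent.Lib.SubSpec19.Pieces
import Groth.Agent.S3327
import Mathlib

/-!
# Contraction sequences between regular proper models
-/

set_option autoImplicit false
set_option linter.style.haveILetI false
set_option linter.unusedSectionVars false
set_option backward.isDefEq.respectTransparency false
set_option maxHeartbeats 1000000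

universe u

open CategoryTheory CategoryTheory.Limits AlgebraicGeometry TopologicalSpace

noncomputable section

namespace Groth.Agent.MinModel

variable {R : Type u} [CommRing R] [IsDomain R] [IsDiscreteValuationRing R]

theorem genIso_of_seq {Z X : Scheme.{u}} {h : Z ⟶ X} (hh : Models.IsContractionSeq h) :
    ∀ q : X ⟶ Spec (CommRingCat.of R), IsProper q → IsProper h ∧ IsIso (h ∣_ (q ⁻¹ᵁ genU R)) := by
  induction hh with
  | iso e => exact fun q _ => ⟨inferInstance, NormBlow.isIso_restrict_iso _ _⟩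
  | @step Y Z X E ι b r _ _ hb _ ih =>
    intro q hq
    obtain ⟨hr, hi⟩ := ih q hq
    haveI := hq; haveI := hr; haveI := hi
    obtain ⟨hZ, hbp, y, hy, -, -, -, hblow⟩ := hb
    haveI := hZ; haveI := hbp
    haveI := PointBlowUp.isIso_restrict hy hblow
    haveI : IsIso (b ∣_ (r ⁻¹ᵁ (q ⁻¹ᵁ genU R))) := CurveBlowUp.isIso_restrict_of_le b
      (show r ⁻¹ᵁ (q ⁻¹ᵁ genU R) ≤ (⟨{y}ᶜ, hy.isOpen_compl⟩ : Z.Opens) from fun w hw (e : w = y) =>
        (show (r ≫ q) w ≠ IsLocalRing.closedPoint R from hw) (by rw [e]; exact closed_over (r ≫ q) hy))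
    refine ⟨inferInstance, ?_⟩
    rw [morphismRestrict_comp]
    infer_instance

variable {C Z X : Scheme.{u}} {f : C ⟶ Spec (CommRingCat.of (FractionRing R))}
  {q : X ⟶ Spec (CommRingCat.of R)}

theorem gen_up (b : Z ⟶ X) [IsIso (b ∣_ (q ⁻¹ᵁ genU R))] {g : C ⟶ X} (hg : IsPullback g f q (toGen R)) :
    ∃ gZ : C ⟶ Z, gZ ≫ b = g ∧ IsPullback gZ f (b ≫ q) (toGen R) := by
  haveI : IsOpenImmersion g := ArInter.isOpenImmersion_generic hg
  let U : X.Opens := q ⁻¹ᵁ genU R
  let a := IsOpenImmersion.isoOfRangeEq g U.ι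
    ((range_eq_of_isPullback hg).trans (Scheme.Opens.range_ι U).symm)
  let gZ : C ⟶ Z := a.hom ≫ inv (b ∣_ U) ≫ (b ⁻¹ᵁ U).ι
  have e : gZ ≫ b = g := by
    simp only [gZ, Category.assoc, ← morphismRestrict_ι, IsIso.inv_hom_id_assoc]
    exact IsOpenImmersion.isoOfRangeEq_hom_fac _ _ _
  refine ⟨gZ, e, isPullback_of_range gZ ?_ ?_⟩
  · rw [← Category.assoc, e, hg.w]
  · simp only [gZ]
    rw [← Category.assoc, Scheme.Hom.comp_base, TopCat.coe_comp, Set.range_comp,
      Set.range_eq_univ.mpr (a.hom ≫ inv (b ∣_ U)).surjective, Set.image_univ, Scheme.Opens.range_ι]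
    rfl

theorem gen_down (b : Z ⟶ X) [IsIso (b ∣_ (q ⁻¹ᵁ genU R))] {gZ : C ⟶ Z}
    (hg : IsPullback gZ f (b ≫ q) (toGen R)) : IsPullback (gZ ≫ b) f q (toGen R) := by
  haveI : IsOpenImmersion gZ := ArInter.isOpenImmersion_generic hg
  let U : X.Opens := q ⁻¹ᵁ genU R
  let a := IsOpenImmersion.isoOfRangeEq gZ (b ⁻¹ᵁ U).ι
    ((range_eq_of_isPullback hg).trans (Scheme.Opens.range_ι (b ⁻¹ᵁ U)).symm)
  have e : gZ ≫ b = (a.hom ≫ (b ∣_ U)) ≫ U.ι := by
    rw [Category.assoc, morphismRestrict_ι, ← Category.assoc, IsOpenImmersion.isoOfRangeEq_hom_fac]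
  haveI : IsOpenImmersion (gZ ≫ b) := by rw [e]; infer_instance
  refine isPullback_of_range (gZ ≫ b) ((Category.assoc _ _ _).trans hg.w) ?_
  rw [e, Scheme.Hom.comp_base, TopCat.coe_comp, Set.range_comp,
    Set.range_eq_univ.mpr (a.hom ≫ (b ∣_ U)).surjective, Set.image_univ, Scheme.Opens.range_ι]

theorem gen_eq (b : Z ⟶ X) [IsIso (b ∣_ (q ⁻¹ᵁ genU R))] {g₁ g₂ : C ⟶ Z} (h : g₁ ≫ b = g₂ ≫ b)
    (h₁ : IsPullback g₁ f (b ≫ q) (toGen R)) : g₁ = g₂ := by
  refine PointBlowUp.eq_of_over_open b (q ⁻¹ᵁ genU R) h fun w => ?_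
  have : g₁ w ∈ Set.range g₁ := ⟨w, rfl⟩
  rw [range_eq_of_isPullback h₁] at this
  exact this

section Seq

variable (hC : Curve.IsSmoothProperCurve (FractionRing R) C f) (hX : Models.IsRegularProperModel R X q C f)

include hC hX in
/-- The source of a contraction sequence onto a model is a model. -/
theorem model_of_seq {h : Z ⟶ X} (hh : Models.IsContractionSeq h) :
    Models.IsRegularProperModel R Z (h ≫ q) C f := by
  haveI := hX.2.1
  haveI := isNoetherian hX
  haveI := isIntegral hC hX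
  haveI := hC.2.2.1
  obtain ⟨hp, hi⟩ := genIso_of_seq hh q hX.2.1
  haveI := hp; haveI := hi
  obtain ⟨g, hg⟩ := hX.1.2.2.2
  obtain ⟨gZ, -, hgZ⟩ := gen_up h hg
  obtain ⟨hZ, -, -, -⟩ := RegRat.seq_props hh inferInstance inferInstance fun x hx hgen => by
    have h1' : g (genericPoint C) ∈ ({x} : Set X) := (hgen.specializes (Set.mem_univ _)).mem_closed hx rfl
    have h1 : g (genericPoint C) = x := h1'
    have h2 : g (genericPoint C) ∈ Set.range g := ⟨_, rfl⟩
    rw [range_eq_of_isPullback hg, h1] at h2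
    exact h2 (closed_over q hx)
  haveI := hZ
  haveI : IsDominant (h ≫ q) := ⟨fun s => by
    have hs : (⟨⊥, Ideal.isPrime_bot⟩ : PrimeSpectrum R) ⤳ (s : PrimeSpectrum R) :=
      (PrimeSpectrum.le_iff_specializes _ _).1 bot_le
    refine closure_mono (Set.singleton_subset_iff.2 ?_) (specializes_iff_mem_closure.1 hs)
    · refine ⟨gZ (genericPoint C), ?_⟩
      rw [← Scheme.Hom.comp_apply, hgZ.w, Scheme.Hom.comp_apply]
      apply PrimeSpectrum.ext
      haveI := (f (genericPoint C) : PrimeSpectrum (FractionRing R)).isPrime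
      show Ideal.comap (algebraMap R (FractionRing R)) (f (genericPoint C) : PrimeSpectrum (FractionRing R)).asIdeal = ⊥
      rw [(Ideal.eq_bot_or_top (f (genericPoint C) : PrimeSpectrum (FractionRing R)).asIdeal).resolve_right
        (Ideal.IsPrime.ne_top inferInstance), ← RingHom.ker_eq_comap_bot,
        (RingHom.injective_iff_ker_eq_bot _).mp (IsFractionRing.injective R (FractionRing R))]⟩
  exact ⟨⟨SubSpec19.flat_of_isIntegral _, inferInstance, inferInstance, gZ, hgZ⟩, inferInstance,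
    fun z => PointBlowUp.isRegularLocalRing_of_seq hh z (hX.2.2 _)⟩

end Seq

/-- A morphism of regular proper models which is the identity on the curve is a contraction sequence. -/
theorem seq_of_hom {p : Z ⟶ Spec (CommRingCat.of R)} (hC : Curve.IsSmoothProperCurve (FractionRing R) C f)
    (hX : Models.IsRegularProperModel R X q C f) (hZ : Models.IsRegularProperModel R Z p C f)
    (h : Z ⟶ X) (hw : h ≫ q = p) {gZ : C ⟶ Z} {gX : C ⟶ X} (hgZ : IsPullback gZ f p (toGen R))
    (hgX : IsPullback gX f q (toGen R)) (hg : gZ ≫ h = gX) : Models.IsContractionSeq h := by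
  haveI := hX.2.1; haveI := hZ.2.1
  haveI := isNoetherian hX; haveI := isNoetherian hZ
  haveI := isIntegral hC hX; haveI := isIntegral hC hZ
  haveI := hC.2.2.1
  haveI : IsProper h := by
    haveI : IsProper (h ≫ q) := hw ▸ hZ.2.1
    exact IsProper.of_comp h q
  haveI : IsOpenImmersion gX := ArInter.isOpenImmersion_generic hgX
  haveI : IsOpenImmersion gZ := ArInter.isOpenImmersion_generic hgZ
  let U : X.Opens := q ⁻¹ᵁ genU R
  let aX := IsOpenImmersion.isoOfRangeEq gX U.ι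
    ((range_eq_of_isPullback hgX).trans (Scheme.Opens.range_ι U).symm)
  let aZ := IsOpenImmersion.isoOfRangeEq gZ (h ⁻¹ᵁ U).ι
    ((range_eq_of_isPullback hgZ).trans (by rw [Scheme.Opens.range_ι, ← hw]; rfl))
  have e : h ∣_ U = aZ.inv ≫ aX.hom := by
    rw [← cancel_mono U.ι, morphismRestrict_ι, Category.assoc, IsOpenImmersion.isoOfRangeEq_hom_fac, ← hg,
      ← Category.assoc, IsOpenImmersion.isoOfRangeEq_inv_fac]
  refine PointBlowUp.isContractionSeq_of_birational _ Z X h (noChain hC hZ) hZ.2.2 (noChain hC hX) hX.2.2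
    ⟨U, ⟨gX (genericPoint C), ?_⟩, ?_⟩ le_rfl
  · exact (range_eq_of_isPullback hgX).le ⟨_, rfl⟩
  · rw [e]; infer_instance

/-- A contraction sequence onto a minimal model of positive genus contracts every exceptional curve. -/
theorem exc_contracted (hC : Curve.IsSmoothProperCurve (FractionRing R) C f) (hH0 : IsIso f.appTop)
    (hg : 0 < Models.curveGenus (FractionRing R) C f) {Z X : Scheme.{u}} {h : Z ⟶ X}
    (hh : Models.IsContractionSeq h) :
    ∀ p : X ⟶ Spec (CommRingCat.of R), Models.IsMinimalModel R X p C f →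
      ∀ {E : Scheme.{u}} (ι : E ⟶ Z) [IsClosedImmersion ι], Models.IsExcCurve ι →
        Set.range ι ⊆ Models.specialFibreSet R (Over.mk (h ≫ p)) → ∃ x, ∀ w, h (ι w) = x := by
  induction hh with
  | @iso Z X e =>
    intro p hX E ι _ hι hE
    exfalso
    obtain ⟨_, k, _, eE, _⟩ := id hι
    haveI : IsClosedImmersion (ι ≫ 𝟙 Z) := by rw [Category.comp_id]; infer_instance
    have hr : Set.range (ι ≫ e.hom) ⊆ Models.specialFibreSet R (Over.mk p) := by
      rintro _ ⟨w, rfl⟩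
      exact hE ⟨w, rfl⟩
    have h1 : Models.IsExcCurve (ι ≫ e.hom) := exc_transfer (𝟙 Z) e.hom ι
      (isEffCartierIdeal_line hC hX.1 hH0 (ι ≫ e.hom) eE hr) (by rwa [Category.comp_id])
    obtain ⟨n, Γ, hΓ⟩ := exists_componentList hC hX.1 hH0
    obtain ⟨i, hi, -⟩ := isExcCurve_index hC hX.1 hΓ (ι ≫ e.hom) h1 hr
    exact hX.2 (Γ i) hi
  | @step Z Z₁ X F ι' b r hι' hF hb hr ih =>
    intro p hX E ι _ hι hE
    haveI := hι'
    haveI := hX.1.2.1
    have hZ₁ := model_of_seq hC hX.1 hr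
    have hZ := model_of_seq hC hX.1 (Models.IsContractionSeq.step ι' b r hι' hF hb hr)
    haveI := hZ₁.2.1
    obtain ⟨hN, hbp, y, hy, hrange, hreg, hdim, hblow⟩ := id hb
    haveI := hN; haveI := hbp; haveI := hreg
    have hF' : ∀ w, b (ι' w) = y := fun w => by
      have : (ι' ≫ b) w ∈ Set.range ((ι' ≫ b).base : F → Z₁) := ⟨w, rfl⟩
      rw [hrange] at this
      exact this
    have hFr : Set.range ι' ⊆ Models.specialFibreSet R (Over.mk ((b ≫ r) ≫ p)) := by
      rintro _ ⟨w, rfl⟩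
      show (r ≫ p) (b (ι' w)) = IsLocalRing.closedPoint R
      rw [hF' w]
      exact closed_over (r ≫ p) hy
    obtain ⟨n, Γ, hΓ⟩ := exists_componentList hC hZ hH0
    obtain ⟨i, hi, hir⟩ := isExcCurve_index hC hZ hΓ ι hι hE
    obtain ⟨j, hj, hjr⟩ := isExcCurve_index hC hZ hΓ ι' hF hFr
    rcases eq_or_ne i j with rfl | hij
    · refine ⟨r y, fun w => ?_⟩
      obtain ⟨w', hw'⟩ : ι w ∈ Set.range ι' := (hir.trans hjr.symm).le ⟨w, rfl⟩
      rw [Scheme.Hom.comp_apply, ← hw', hF']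
    have hdis : Disjoint (Set.range ι) (Set.range ι') := by
      by_contra hnot
      rw [hir, hjr] at hnot
      obtain ⟨-, -, -, -, hg0⟩ := Groth.Agent.S3327.result R C Z f _ hC hH0 hZ Γ hΓ i j hij hi hj hnot
      omega
    have hout : ∀ w, b (ι w) ≠ y := fun w hw =>
      Set.disjoint_left.1 hdis ⟨w, rfl⟩ (PointBlowUp.mem_range_of_over b hy hblow hdim ι' hF hF' hw)
    haveI := PointBlowUp.isIso_restrict hy hblow
    let U : Z₁.Opens := ⟨{y}ᶜ, hy.isOpen_compl⟩
    haveI : IsIso (b ∣_ U) := PointBlowUp.isIso_restrict hy hblow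
    have hW : Set.range ι ⊆ Set.range (b ⁻¹ᵁ U).ι := by
      rw [Scheme.Opens.range_ι]
      rintro _ ⟨w, rfl⟩
      exact hout w
    let ι₀ := IsOpenImmersion.lift (b ⁻¹ᵁ U).ι ι hW
    have hι₀ : ι₀ ≫ (b ⁻¹ᵁ U).ι = ι := IsOpenImmersion.lift_fac _ _ _
    haveI : IsClosedImmersion (ι₀ ≫ (b ⁻¹ᵁ U).ι) := hι₀.symm ▸ ‹IsClosedImmersion ι›
    haveI : IsClosedImmersion ι₀ := IsClosedImmersion.of_comp ι₀ (b ⁻¹ᵁ U).ι
    let k := (b ∣_ U) ≫ U.ι
    have hk : ι₀ ≫ k = ι ≫ b := by
      rw [show k = (b ⁻¹ᵁ U).ι ≫ b from morphismRestrict_ι b U, ← Category.assoc, hι₀]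
    haveI : IsClosedImmersion (ι ≫ b) := by
      haveI : IsPreimmersion (ι ≫ b) := by rw [← hk]; infer_instance
      refine IsClosedImmersion.of_isPreimmersion _ ?_
      rw [Scheme.Hom.comp_base, TopCat.coe_comp, Set.range_comp]
      exact b.isClosedMap _ ι.isClosedEmbedding.isClosed_range
    haveI : IsClosedImmersion (ι₀ ≫ k) := by rw [hk]; infer_instance
    have hr1 : Set.range (ι ≫ b) ⊆ Models.specialFibreSet R (Over.mk (r ≫ p)) := by
      rintro _ ⟨w, rfl⟩
      exact hE ⟨w, rfl⟩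
    obtain ⟨_, kE, _, eE, _⟩ := id hι
    have hexc : Models.IsExcCurve (ι₀ ≫ k) := by
      refine exc_transfer (b ⁻¹ᵁ U).ι k ι₀ ?_ (by rw [hι₀]; exact hι)
      rw [hk]
      exact isEffCartierIdeal_line hC hZ₁ hH0 (ι ≫ b) eE hr1
    rw [hk] at hexc
    obtain ⟨x, hx⟩ := ih p hX (ι ≫ b) hexc hr1
    exact ⟨x, fun w => hx w⟩

end Groth.Agent.MinModel
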