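import Groth.Agent.Lib.ArInter.Meet
import Groth.Agent.Lib.ArInter.Components
import Groth.Agent.Lib.ArInter.Generic
import Groth.Agent.Lib.ArInter.Model
import Groth.Agent.Lib.ModelDom32.Fibre
import Groth.Agent.Lib.RelMin32.Basic
import Groth.Agent.Lib.PointBlowUp32.Seq
import Groth.Agent.Lib.VB17.Setup
import Mathlib

/-!
# Elementary geometry of regular proper models of curves over a discrete valuation ring
-/

set_option autoImplicit false
set_option linter.style.haveILetI false
set_option linter.unusedSectionVars false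
set_option backward.isDefEq.respectTransparency false
set_option maxHeartbeats 1000000

universe u

open CategoryTheory CategoryTheory.Limits AlgebraicGeometry TopologicalSpace

noncomputable section

namespace Groth.Agent.MinModel

variable {R : Type u} [CommRing R] [IsDomain R] [IsDiscreteValuationRing R]

variable (R) in
/-- The inclusion of the generic point of the base. -/
abbrev toGen : Spec (CommRingCat.of (FractionRing R)) ⟶ Spec (CommRingCat.of R) :=
  Spec.map (CommRingCat.ofHom (algebraMap R (FractionRing R)))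

theorem isOpenImmersion_toGen : IsOpenImmersion (toGen R) := by
  obtain ⟨π, hπ⟩ := IsDiscreteValuationRing.exists_irreducible R
  haveI : IsLocalization.Away π (FractionRing R) := RedDVR15.isLocalization_away_uniformizer R hπ
  exact IsOpenImmersion.of_isLocalization π

variable (R) in
/-- The open complement of the closed point of the base. -/
abbrev genU : (Spec (CommRingCat.of R) : Scheme.{u}).Opens :=
  ⟨{IsLocalRing.closedPoint R}ᶜ, (PrimeSpectrum.isClosed_singleton_iff_isMaximal _ |>.2
    (IsLocalRing.maximalIdeal.isMaximal R)).isOpen_compl⟩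

theorem range_toGen : Set.range (toGen R) = (genU R : Set (Spec (CommRingCat.of R) : Scheme.{u})) := by
  obtain ⟨π, hπ⟩ := IsDiscreteValuationRing.exists_irreducible R
  haveI : IsLocalization.Away π (FractionRing R) := RedDVR15.isLocalization_away_uniformizer R hπ
  refine (PrimeSpectrum.localization_away_comap_range (FractionRing R) π).trans ?_
  ext x
  show π ∉ (x : PrimeSpectrum R).asIdeal ↔ x ≠ IsLocalRing.closedPoint R
  constructor
  · rintro h rfl
    refine h ?_
    show π ∈ IsLocalRing.maximalIdeal R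
    rw [hπ.maximalIdeal_eq]
    exact Ideal.mem_span_singleton_self π
  · intro h hmem
    refine h (PrimeSpectrum.ext ?_)
    show (x : PrimeSpectrum R).asIdeal = IsLocalRing.maximalIdeal R
    haveI := (x : PrimeSpectrum R).isPrime
    refine le_antisymm (IsLocalRing.le_maximalIdeal (Ideal.IsPrime.ne_top inferInstance)) ?_
    rw [hπ.maximalIdeal_eq]
    exact (Ideal.span_singleton_le_iff_mem _).2 hmem

/-- A closed point of a scheme proper over the base lies over the closed point. -/
theorem closed_over {X : Scheme.{u}} (p : X ⟶ Spec (CommRingCat.of R)) [IsProper p] {x : X}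
    (hx : IsClosed ({x} : Set X)) : p x = IsLocalRing.closedPoint R := by
  have h := p.isClosedMap _ hx
  rw [Set.image_singleton] at h
  exact ((IsLocalRing.specializes_closedPoint (p x)).mem_closed h rfl).symm

variable {C X : Scheme.{u}} {f : C ⟶ Spec (CommRingCat.of (FractionRing R))}
  {p : X ⟶ Spec (CommRingCat.of R)}

/-- An open immersion of the curve onto the generic fibre presents it as the generic fibre. -/
theorem isPullback_of_range (g : C ⟶ X) [IsOpenImmersion g] (w : g ≫ p = f ≫ toGen R)
    (hr : Set.range g = ((p ⁻¹ᵁ genU R : X.Opens) : Set X)) : IsPullback g f p (toGen R) := by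
  haveI := isOpenImmersion_toGen (R := R)
  refine (IsOpenImmersion.isPullback f g (toGen R) p w (Opens.ext ?_)).flip
  show p ⁻¹' Set.range (toGen R) = Set.range g
  rw [hr, range_toGen]
  rfl

theorem range_eq_of_isPullback {g : C ⟶ X} (hg : IsPullback g f p (toGen R)) :
    Set.range g = ((p ⁻¹ᵁ genU R : X.Opens) : Set X) := by
  rw [← hg.isoPullback_hom_fst, Scheme.Hom.comp_base, TopCat.coe_comp, Set.range_comp,
    Set.range_eq_univ.mpr hg.isoPullback.hom.surjective, Set.image_univ, Scheme.Pullback.range_fst, range_toGen]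
  rfl

section Model

variable (hC : Curve.IsSmoothProperCurve (FractionRing R) C f) (hX : Models.IsRegularProperModel R X p C f)

include hX in
theorem isNoetherian : IsNoetherian X := by
  haveI := hX.2.1
  haveI : IsLocallyNoetherian X := LocallyOfFiniteType.isLocallyNoetherian p
  haveI : CompactSpace X := QuasiCompact.compactSpace_of_compactSpace p
  exact ⟨⟩

include hC hX in
theorem isIntegral : IsIntegral X := ArInter.isIntegral_of_isModel hC hX.1 hX.2.2

include hC hX in
theorem noChain : RelMin.NoChain X := by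
  haveI := hX.2.1
  haveI := hX.1.1
  haveI := isIntegral hC hX
  haveI := hC.2.2.1
  haveI : IsLocallyNoetherian X := LocallyOfFiniteType.isLocallyNoetherian p
  obtain ⟨g, hg⟩ := hX.1.2.2.2
  haveI : IsIntegral (Over.mk p).left := inferInstanceAs (IsIntegral X)
  haveI : IsProper (Over.mk p).hom := inferInstanceAs (IsProper p)
  haveI : Flat (Over.mk p).hom := inferInstanceAs (Flat p)
  haveI : IsOpenImmersion g := ArInter.isOpenImmersion_generic hg
  have hcl := Models.isClosed_specialFibreSet R (Over.mk p)
  have hgen : ∀ x : X, x ∉ Models.specialFibreSet R (Over.mk p) → x ∈ Set.range g := fun x hx => by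
    rw [range_eq_of_isPullback hg]; exact hx
  intro a b c d hab hbc hcd nab nbc ncd
  by_cases hb : b ∈ Models.specialFibreSet R (Over.mk p)
  · exact ModelDom.eq_or_eq_of_chain (X := Over.mk p) hC g hg hbc hcd hb nbc ncd
  have ha : a ∉ Models.specialFibreSet R (Over.mk p) := fun h => hb (hab.mem_closed hcl h)
  by_cases hc : c ∈ Models.specialFibreSet R (Over.mk p)
  · have hn : Pi1.IsNormalScheme (Over.mk p).left := fun x => by
      haveI := hX.2.2 x
      exact RelMin.isDomain_normal (A := X.presheaf.stalk x)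
    have hmax := (ModelDom.isMaxPt_or_isClosed (X := Over.mk p) hC g hg hc).resolve_right fun h =>
      ncd (hcd.mem_closed h rfl).symm
    obtain ⟨_, hv⟩ := ModelDom.valuationRing (X := Over.mk p) hn hmax
    have h2 := PointBlowUp.two_le_ringKrullDim_stalk hab hbc nab nbc
    haveI : IsDomain (X.presheaf.stalk c) := (hn c).1
    haveI : ValuationRing (X.presheaf.stalk c) := hv
    haveI := hX.2.2 c
    haveI : IsPrincipalIdealRing (X.presheaf.stalk c) :=
      ((IsBezout.TFAE (R := X.presheaf.stalk c)).out 0 1 :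
        IsNoetherianRing (X.presheaf.stalk c) ↔ IsPrincipalIdealRing (X.presheaf.stalk c)).1 inferInstance
    have h1 : ringKrullDim (X.presheaf.stalk c) ≤ 1 := Ring.krullDimLE_iff.1 inferInstance
    exact absurd (h2.trans h1) (by decide)
  · obtain ⟨a', rfl⟩ := hgen a ha
    obtain ⟨b', rfl⟩ := hgen b hb
    obtain ⟨c', rfl⟩ := hgen c hc
    rw [g.isOpenEmbedding.isInducing.specializes_iff] at hab hbc
    have h2 := (PointBlowUp.two_le_ringKrullDim_stalk hab hbc (fun h => nab (congrArg g h))
      fun h => nbc (congrArg g h)).trans (VB17.ringKrullDim_stalk_le_topologicalKrullDim c')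
    rw [hC.2.2.2] at h2
    exact absurd h2 (by decide)

include hC hX in
theorem dim_eq_two : topologicalKrullDim X = 2 := by
  refine le_antisymm (RelMin.dim_le_of_noChain (noChain hC hX)) ?_
  haveI := hX.2.1
  haveI := isIntegral hC hX
  haveI := hC.2.2.1
  haveI := isNoetherian hX
  haveI := hC.2.2.1
  obtain ⟨g, hg⟩ := hX.1.2.2.2
  haveI : IsOpenImmersion g := ArInter.isOpenImmersion_generic hg
  obtain ⟨x, hx⟩ : ∃ x : C, x ≠ genericPoint C := by
    by_contra h
    push Not at h
    haveI : Subsingleton C := ⟨fun a b => (h a).trans (h b).symm⟩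
    have h0 : topologicalKrullDim C ≤ 0 := by
      haveI : Subsingleton (IrreducibleCloseds C) := ⟨fun A B => IrreducibleCloseds.ext (by
          obtain ⟨a, ha⟩ := A.isIrreducible'.nonempty
          obtain ⟨b, hb⟩ := B.isIrreducible'.nonempty
          ext w
          exact ⟨fun _ => Subsingleton.elim b w ▸ hb, fun _ => Subsingleton.elim a w ▸ ha⟩)⟩
      exact Order.krullDim_nonpos_of_subsingleton
    rw [hC.2.2.2] at h0
    exact absurd h0 (by decide)
  obtain ⟨z, hz, hzc⟩ := IsClosed.exists_closed_singleton (isClosed_closure (s := {g x})) ⟨_, subset_closure rfl⟩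
  have hne : g x ≠ z := fun h => by
    have h1 : g x ∈ ((p ⁻¹ᵁ genU R : X.Opens) : Set X) := by
      rw [← range_eq_of_isPullback hg]; exact ⟨x, rfl⟩
    exact h1 (h ▸ closed_over p hzc)
  exact (PointBlowUp.two_le_ringKrullDim_stalk ((genericPoint_specializes x).map g.continuous)
    (specializes_iff_mem_closure.2 hz) (fun h => hx (g.isOpenEmbedding.injective h).symm) hne).trans
    (VB17.ringKrullDim_stalk_le_topologicalKrullDim z)

include hC hX in
theorem exists_componentList (hH0 : IsIso f.appTop) :
    ∃ (n : ℕ) (Γ : Fin n → ArSurf.VertComp R (Over.mk p)), Models.IsComponentList R (Over.mk p) Γ :=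
  ArInter.exists_componentList (ArInter.isSurf_of_model hC hX) (dim_eq_two hC hX)
    (ArInter.isConnected_specialFibreSet hC hH0 hX)

include hC hX in
/-- A projective line in the closed fibre is one of its components. -/
theorem exists_index {n : ℕ} {Γ : Fin n → ArSurf.VertComp R (Over.mk p)}
    (hΓ : Models.IsComponentList R (Over.mk p) Γ) {E : Scheme.{u}} (ι : E ⟶ X) [IsClosedImmersion ι]
    {k : Type u} [Field k] (e : CohB1.ProjSpace 1 k ≅ E)
    (hE : Set.range ι ⊆ Models.specialFibreSet R (Over.mk p)) :
    ∃ (i : Fin n) (d : (Γ i).curve.left ≅ E), d.hom ≫ ι = (Γ i).ι ∧ ι.ker = (Γ i).ι.ker ∧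
      Set.range ι = Set.range (Γ i).ι := by
  haveI := hX.2.1
  haveI := hX.1.1
  haveI := isIntegral hC hX
  haveI := hC.2.2.1
  haveI : IsIntegral (Over.mk p).left := inferInstanceAs (IsIntegral X)
  haveI : IsProper (Over.mk p).hom := inferInstanceAs (IsProper p)
  haveI : Flat (Over.mk p).hom := inferInstanceAs (Flat p)
  obtain ⟨g, hg⟩ := hX.1.2.2.2
  obtain ⟨z, hzc, hz⟩ := PointBlowUp.P1_points k
  let j := e.hom ≫ ι
  have hrj : Set.range ι = closure {j z} := by
    refine Set.Subset.antisymm ?_ (closure_minimal (Set.singleton_subset_iff.2 ⟨e.hom z, rfl⟩)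
      ι.isClosedEmbedding.isClosed_range)
    rintro _ ⟨w, rfl⟩
    refine specializes_iff_mem_closure.1 ?_
    have h := (hz (e.inv w)).1.map j.continuous
    rwa [show j (e.inv w) = ι w by simp [j, ← Scheme.Hom.comp_apply]] at h
  have hjc : ¬ IsClosed ({j z} : Set X) := fun h => hzc (by
    have := h.preimage j.continuous
    rwa [← Set.image_singleton, Set.preimage_image_eq _ j.isClosedEmbedding.injective] at this)
  have hmax := (ModelDom.isMaxPt_or_isClosed (X := Over.mk p) hC g hg
    (x := j z) (hE ⟨e.hom z, rfl⟩)).resolve_right hjc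
  obtain ⟨i, hi⟩ := hΓ.2.ge ((ModelDom.isMaxPt_iff_component _).1 hmax)
  have hr : Set.range ι = Set.range (Γ i).ι := hrj.trans hi.symm
  haveI : IsIntegral (CohB1.ProjSpace 1 k) := RegExt.isIntegral_projSpace 1 k
  haveI : Nonempty E := ⟨e.hom (genericPoint _)⟩
  haveI : IsIntegral E := isIntegral_of_isOpenImmersion e.inv
  haveI := (Γ i).isClosedImmersion
  haveI := (Γ i).isIntegral
  have hk : ι.ker = (Γ i).ι.ker := by
    rw [RedSepLib.ker_eq_vanishingIdeal, RedSepLib.ker_eq_vanishingIdeal]
    exact congrArg (fun s => Scheme.IdealSheafData.vanishingIdeal (Closeds.closure s)) hr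
  let l := IsClosedImmersion.lift ι (Γ i).ι hk.le
  have hl : l ≫ ι = (Γ i).ι := IsClosedImmersion.lift_fac _ _ _
  haveI : IsIso l := IsClosedImmersion.isIso_of_ker_eq (Γ i).ι ι l hl hk.symm
  exact ⟨i, asIso l, hl, hk, hr⟩

include hC hX in
theorem isExcCurve_index {n : ℕ} {Γ : Fin n → ArSurf.VertComp R (Over.mk p)}
    (hΓ : Models.IsComponentList R (Over.mk p) Γ) {E : Scheme.{u}} (ι : E ⟶ X) [IsClosedImmersion ι]
    (hexc : Models.IsExcCurve ι) (hE : Set.range ι ⊆ Models.specialFibreSet R (Over.mk p)) :
    ∃ i : Fin n, Models.IsExcCurve (Γ i).ι ∧ Set.range ι = Set.range (Γ i).ι := by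
  obtain ⟨hEff, k, _, e, ⟨τ⟩⟩ := hexc
  obtain ⟨i, d, hd, hk, hr⟩ := exists_index hC hX hΓ ι e hE
  refine ⟨i, ⟨hk ▸ hEff, k, _, e ≪≫ d.symm, ⟨?_⟩⟩, hr⟩
  rw [← hk, show (e ≪≫ d.symm).hom ≫ (Γ i).ι = e.hom ≫ ι by simp [← hd]]
  exact τ

include hC hX in
theorem isEffCartierIdeal_line (hH0 : IsIso f.appTop) {E : Scheme.{u}} (ι : E ⟶ X) [IsClosedImmersion ι]
    {k : Type u} [Field k] (e : CohB1.ProjSpace 1 k ≅ E)
    (hE : Set.range ι ⊆ Models.specialFibreSet R (Over.mk p)) : BlowUp.IsEffCartierIdeal ι.ker := by
  obtain ⟨n, Γ, hΓ⟩ := exists_componentList hC hX hH0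
  obtain ⟨i, _, _, hk, _⟩ := exists_index hC hX hΓ ι e hE
  rw [hk]
  exact ArInter.isEffCartierIdeal_component (ArInter.isSurf_of_model hC hX).pre hX.2.2 hΓ i

end Model

end Groth.Agent.MinModel
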