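import Groth.Agent.Lib.MinModel32.Seq
import Mathlib

/-!
# The mapping property of minimal models of positive genus
-/

set_option autoImplicit false
set_option linter.style.haveILetI false
set_option linter.unusedSectionVars false
set_option backward.isDefEq.respectTransparency false
set_option maxHeartbeats 1000000

universe u

open CategoryTheory CategoryTheory.Limits AlgebraicGeometry TopologicalSpace

noncomputable section

namespace Groth.Agent.MinModel

variable {R : Type u} [CommRing R] [IsDomain R] [IsDiscreteValuationRing R]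
  {C X : Scheme.{u}} {f : C ⟶ Spec (CommRingCat.of (FractionRing R))} {p : X ⟶ Spec (CommRingCat.of R)}

section Factor

variable (hC : Curve.IsSmoothProperCurve (FractionRing R) C f) (hH0 : IsIso f.appTop)
  (hg : 0 < Models.curveGenus (FractionRing R) C f) (hX : Models.IsMinimalModel R X p C f)

include hC hH0 hg hX in
/-- A modification mapping to a minimal model descends to every model below it. -/
theorem exists_descend {gX : C ⟶ X} (hgX : IsPullback gX f p (toGen R)) {Z Y : Scheme.{u}} {b : Z ⟶ Y}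
    (hb : Models.IsContractionSeq b) :
    ∀ q : Y ⟶ Spec (CommRingCat.of R), Models.IsRegularProperModel R Y q C f →
      ∀ (h : Z ⟶ X) (gZ : C ⟶ Z), IsPullback gZ f (b ≫ q) (toGen R) → h ≫ p = b ≫ q → gZ ≫ h = gX →
        ∃ ψ : Y ⟶ X, b ≫ ψ = h := by
  induction hb with
  | @iso Z Y e => exact fun q _ h gZ _ _ _ => ⟨e.inv ≫ h, by simp⟩
  | @step Z Z₁ Y E ι c r hι hE hc hr ih =>
    intro q hY h gZ hgZ hw hg'
    haveI := hι
    haveI := hY.2.1
    have hZ₁ := model_of_seq hC hY hr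
    have hZ := model_of_seq hC hY (Models.IsContractionSeq.step ι c r hι hE hc hr)
    haveI := hZ₁.2.1
    have hseq : Models.IsContractionSeq h := seq_of_hom hC hX.1 hZ h hw hgZ hgX hg'
    obtain ⟨hN, hcp, y, hy, hrange, -⟩ := id hc
    have hEr : Set.range ι ⊆ Models.specialFibreSet R (Over.mk (h ≫ p)) := by
      rintro _ ⟨w, rfl⟩
      show (h ≫ p) (ι w) = IsLocalRing.closedPoint R
      have : (ι ≫ c) w ∈ Set.range ((ι ≫ c).base : E → Z₁) := ⟨w, rfl⟩
      rw [hrange] at this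
      rw [hw]
      show (r ≫ q) ((ι ≫ c) w) = IsLocalRing.closedPoint R
      rw [show (ι ≫ c) w = y from this]
      exact closed_over (r ≫ q) hy
    obtain ⟨x, hx⟩ := exc_contracted hC hH0 hg hseq p hX ι hE hEr
    obtain ⟨ψ₁, hψ₁, -⟩ := PointBlowUp.contraction_universal ι hE c hc h x hx
    obtain ⟨_, _, huniq⟩ := PointBlowUp.contraction_universal ι hE c hc (h ≫ p) (p x)
      (fun w => congrArg p (hx w))
    have hw₁ : ψ₁ ≫ p = r ≫ q :=
      (huniq (ψ₁ ≫ p) (by show c ≫ ψ₁ ≫ p = _; rw [← Category.assoc, hψ₁])).trans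
        (huniq (r ≫ q) (by show c ≫ r ≫ q = _; rw [hw, Category.assoc])).symm
    have hc1 := genIso_of_seq (Models.IsContractionSeq.step ι c (Iso.refl Z₁).hom hι hE hc (.iso (Iso.refl Z₁)))
      (r ≫ q) hZ₁.2.1
    rw [Iso.refl_hom, Category.comp_id] at hc1
    haveI := hc1.2
    have hgZ₁ : IsPullback (gZ ≫ c) f (r ≫ q) (toGen R) :=
      gen_down c (by rwa [← Category.assoc])
    obtain ⟨ψ, hψ⟩ := ih q hY ψ₁ (gZ ≫ c) hgZ₁ hw₁ (by rw [Category.assoc, hψ₁, hg'])
    exact ⟨ψ, by rw [Category.assoc, hψ, hψ₁]⟩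

include hC hH0 hg hX in
/-- The mapping property. -/
theorem exists_hom {Y : Scheme.{u}} {q : Y ⟶ Spec (CommRingCat.of R)}
    (hY : Models.IsRegularProperModel R Y q C f) {gX : C ⟶ X} (hgX : IsPullback gX f p (toGen R))
    {gY : C ⟶ Y} (hgY : IsPullback gY f q (toGen R)) : ∃ ψ : Y ⟶ X, ψ ≫ p = q ∧ gY ≫ ψ = gX := by
  haveI := hX.1.2.1
  haveI := hY.2.1
  haveI := isNoetherian hY
  haveI := isIntegral hC hY
  haveI := hC.2.2.1
  haveI : IsOpenImmersion gY := ArInter.isOpenImmersion_generic hgY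
  let U : Y.Opens := q ⁻¹ᵁ genU R
  let a := IsOpenImmersion.isoOfRangeEq gY U.ι
    ((range_eq_of_isPullback hgY).trans (Scheme.Opens.range_ι U).symm)
  have ha : a.hom ≫ U.ι = gY := IsOpenImmersion.isoOfRangeEq_hom_fac _ _ _
  let φ : (U : Scheme.{u}) ⟶ X := a.inv ≫ gX
  have hφ : φ ≫ p = U.ι ≫ q := by
    rw [← cancel_epi a.hom, ← Category.assoc, a.hom_inv_id_assoc, hgX.w, ← hgY.w, ← ha, Category.assoc]
  haveI : IsLocallyNoetherian (Spec (CommRingCat.of R)) := inferInstance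
  obtain ⟨Z, b, h, hb, hw, hag⟩ := PointBlowUp.exists_extend_rational hY.2.2 (noChain hC hY) q p U
    ⟨gY (genericPoint C), (range_eq_of_isPullback hgY).le ⟨_, rfl⟩⟩ φ hφ
  obtain ⟨-, hbi⟩ := genIso_of_seq hb q hY.2.1
  haveI := hbi
  obtain ⟨gZ, hgb, hgZ⟩ := gen_up b hgY
  have hZX : gZ ≫ h = gX := by
    let l := IsOpenImmersion.lift (b ⁻¹ᵁ U).ι gZ
      (((range_eq_of_isPullback hgZ).trans (Scheme.Opens.range_ι (b ⁻¹ᵁ U)).symm).le)
    have hl : l ≫ (b ⁻¹ᵁ U).ι = gZ := IsOpenImmersion.lift_fac _ _ _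
    have hl' : l ≫ (b ∣_ U) = a.hom := by
      rw [← cancel_mono U.ι, Category.assoc, morphismRestrict_ι, ← Category.assoc, hl, hgb, ha]
    rw [← hl, Category.assoc, hag, ← Category.assoc, hl', a.hom_inv_id_assoc]
  obtain ⟨ψ, hψ⟩ := exists_descend hC hH0 hg hX hgX hb q hY h gZ hgZ hw hZX
  have h2 : gY ≫ ψ = gX := by rw [← hgb, Category.assoc, hψ, hZX]
  refine ⟨ψ, ?_, h2⟩
  haveI : IsDominant gY := ⟨gY.isOpenEmbedding.isOpen_range.dense ⟨_, genericPoint C, rfl⟩⟩
  refine ext_of_isDominant gY ?_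
  rw [← Category.assoc, h2, hgX.w, hgY.w]

end Factor

theorem hom_unique (hC : Curve.IsSmoothProperCurve (FractionRing R) C f) {Y : Scheme.{u}}
    {q : Y ⟶ Spec (CommRingCat.of R)} (hY : Models.IsRegularProperModel R Y q C f) [IsProper p]
    {gY : C ⟶ Y} (hgY : IsPullback gY f q (toGen R)) {u v : Y ⟶ X} (hw : u ≫ p = v ≫ p)
    (h : gY ≫ u = gY ≫ v) : u = v := by
  haveI := isIntegral hC hY
  haveI := hC.2.2.1
  haveI : IsOpenImmersion gY := ArInter.isOpenImmersion_generic hgY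
  haveI : IsDominant gY := ⟨gY.isOpenEmbedding.isOpen_range.dense ⟨_, genericPoint C, rfl⟩⟩
  exact ext_of_isDominant_of_isSeparated p hw gY h

end Groth.Agent.MinModel
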