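import Groth.Agent.Lib.MinModel32.Basic
import Groth.Agent.Lib.ArInter.Smooth
import Groth.Agent.Lib.SchImage14.Basic
import Groth.Agent.Lib.ArInter.Deg
import Groth.Agent.Lib.PointBlowUp32.Contract
import Mathlib

/-!
# Exceptional curves do not see anything away from them
-/

set_option autoImplicit false
set_option linter.style.haveILetI false
set_option linter.unusedSectionVars false
set_option backward.isDefEq.respectTransparency false
set_option maxHeartbeats 1000000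

universe u

open CategoryTheory CategoryTheory.Limits AlgebraicGeometry TopologicalSpace

noncomputable section

namespace Groth.Agent.MinModel

theorem exc_pull_open {W X E P : Scheme.{u}} (j : W ⟶ X) [IsOpenImmersion j] (ι₀ : E ⟶ W)
    [IsClosedImmersion (ι₀ ≫ j)] (hX : BlowUp.IsEffCartierIdeal (ι₀ ≫ j).ker) (e : P ⟶ E) :
    BlowUp.IsEffCartierIdeal ι₀.ker ∧
      Nonempty ((Scheme.Modules.pullback (e ≫ ι₀ ≫ j)).obj (ClSub.idealMod (ι₀ ≫ j).ker) ≅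
        (Scheme.Modules.pullback (e ≫ ι₀)).obj (ClSub.idealMod ι₀.ker)) := by
  have H : IsPullback (𝟙 E) ι₀ (ι₀ ≫ j) j := by
    refine (IsOpenImmersion.isPullback ι₀ (𝟙 E) j (ι₀ ≫ j) (Category.id_comp _) (Opens.ext ?_)).flip
    show (ι₀ ≫ j) ⁻¹' Set.range j = Set.range (𝟙 E : E ⟶ E)
    ext w
    exact ⟨fun _ => ⟨w, rfl⟩, fun _ => ⟨ι₀ w, rfl⟩⟩
  have hker : (ι₀ ≫ j).ker.comap j = ι₀.ker := SchImage14.ker_comap_of_flat H
  have hW : BlowUp.IsEffCartierIdeal ((ι₀ ≫ j).ker.comap j) :=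
    BlowUpExist.isEffCartierIdeal_comap_of_isOpenImmersion hX j
  obtain ⟨ψ⟩ := ArInter.nonempty_pullback_idealMod j hX hW
  refine ⟨hker ▸ hW, ⟨?_⟩⟩
  exact (eqToIso (by rw [Category.assoc]) : (Scheme.Modules.pullback (e ≫ ι₀ ≫ j)).obj _ ≅
      (Scheme.Modules.pullback ((e ≫ ι₀) ≫ j)).obj (ClSub.idealMod (ι₀ ≫ j).ker)) ≪≫
    ((Scheme.Modules.pullbackComp (e ≫ ι₀) j).app _).symm ≪≫
    (Scheme.Modules.pullback (e ≫ ι₀)).mapIso (ψ ≪≫ eqToIso (by rw [hker]))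

/-- Transfer of an exceptional curve between two schemes with a common open neighbourhood of it. -/
theorem exc_transfer {W X Y E : Scheme.{u}} (j : W ⟶ X) [IsOpenImmersion j] (j' : W ⟶ Y) [IsOpenImmersion j']
    (ι₀ : E ⟶ W) [IsClosedImmersion (ι₀ ≫ j)] [IsClosedImmersion (ι₀ ≫ j')]
    (hY : BlowUp.IsEffCartierIdeal (ι₀ ≫ j').ker) (h : Models.IsExcCurve (ι₀ ≫ j)) :
    Models.IsExcCurve (ι₀ ≫ j') := by
  obtain ⟨hX, k, _, e, ⟨τ⟩⟩ := h
  obtain ⟨-, ⟨a⟩⟩ := exc_pull_open j ι₀ hX e.hom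
  obtain ⟨-, ⟨b⟩⟩ := exc_pull_open j' ι₀ hY e.hom
  exact ⟨hY, k, _, e, ⟨b ≪≫ a.symm ≪≫ τ⟩⟩

end Groth.Agent.MinModel
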